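import Mathlib
import Cfsg.Agent.Lib.Helper71.SUG2.Defs

/-!
# Project SUG (S2412), block [II]: package [II-PAIR]

From `w = e_0+e_1+e_2+e_3` to the weight-2 vector `e_4 + α² e_5` (indices mod `n`).
-/

set_option autoImplicit false

namespace Cfsg.Agent.Lib.Helper62.SUG2

open Cfsg.Agent.Lib.Helper71.SUG2

universe u

theorem rot_val {n : ℕ} (i : Fin n) :
    (finRotate n i).val = if i.val + 1 = n then 0 else i.val + 1 := by
  cases n with
  | zero => exact i.elim0
  | succ m =>
    rw [coe_finRotate]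
    by_cases h : i = Fin.last m
    · subst h; simp
    · have : i.val ≠ m := fun h' => h (Fin.ext h')
      simp [h]; omega

theorem rotS_val {n : ℕ} (i : Fin n) :
    ((finRotate n).symm i).val = if i.val = 0 then n - 1 else i.val - 1 := by
  have h := rot_val ((finRotate n).symm i)
  rw [Equiv.apply_symm_apply] at h
  have := ((finRotate n).symm i).isLt
  split_ifs at h ⊢ <;> omega

/-- a sum over `Fin n` of a function of the value supported on `{0,…,5}`. -/
theorem sum_fin_six {F : Type u} [Field F] {n : ℕ} (hn : 6 ≤ n) (g : ℕ → F)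
    (h : ∀ k, 6 ≤ k → g k = 0) :
    ∑ i : Fin n, g i.val = g 0 + g 1 + g 2 + g 3 + g 4 + g 5 := by
  rw [Fin.sum_univ_eq_sum_range g n, ← Finset.sum_range_add_sum_Ico g hn]
  have h0 : ∑ k ∈ Finset.Ico 6 n, g k = 0 :=
    Finset.sum_eq_zero (fun k hk => h k (Finset.mem_Ico.mp hk).1)
  rw [h0, add_zero]
  simp [Finset.sum_range_succ]

section

variable {F : Type u} [Field F]

/-- the case `6 ≤ n`. -/
theorem pair_six (h2 : (2 : F) = 0) {n : ℕ} (hn : 6 ≤ n) (α : F) (hα : α ^ 2 + α + 1 = 0)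
    (C : Set (Fin n → F)) (hC : VClosed n F (dvec n α) C) (hw : wvec n F ∈ C) :
    (E ⟨4, by omega⟩ + α ^ 2 • E (finRotate n ⟨4, by omega⟩) : Fin n → F) ∈ C := by
  have hα0 : α ≠ 0 := by
    rintro rfl
    simp at hα
  have h1 := hC.rot _ hw
  have h2' := hC.rot _ h1
  have hf := hC.dmul _ h2'
  have h3 := hC.base.third _ h2' _ hf
  have h4 := hC.base.scal _ h3 α hα0
  have e2 : ∀ i : Fin n, ((wvec n F ∘ (finRotate n).symm) ∘ (finRotate n).symm) i =
      if 2 ≤ i.val ∧ i.val < 6 then 1 else 0 := by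
    intro i
    simp only [Function.comp_apply, wvec, rotS_val]
    have := i.isLt
    split_ifs <;> first | rfl | (exfalso; omega)
  have hH : H n F ((wvec n F ∘ (finRotate n).symm) ∘ (finRotate n).symm)
      (fun i => dvec n α i * ((wvec n F ∘ (finRotate n).symm) ∘ (finRotate n).symm) i) = α ^ 2 := by
    rw [H_apply]
    have e : ∀ i : Fin n, ((wvec n F ∘ (finRotate n).symm) ∘ (finRotate n).symm) i *
        (dvec n α i * ((wvec n F ∘ (finRotate n).symm) ∘ (finRotate n).symm) i) ^ 2 =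
        (fun k : ℕ => (if 2 ≤ k ∧ k < 6 then (1 : F) else 0) *
          ((if k < 4 then α else if k = 4 then α ^ 2 else 1) *
            (if 2 ≤ k ∧ k < 6 then (1 : F) else 0)) ^ 2) i.val := by
      intro i
      rw [e2 i]
      rfl
    have hg := sum_fin_six hn (fun k : ℕ => (if 2 ≤ k ∧ k < 6 then (1 : F) else 0) *
          ((if k < 4 then α else if k = 4 then α ^ 2 else 1) *
            (if 2 ≤ k ∧ k < 6 then (1 : F) else 0)) ^ 2) (by
      intro k hk
      have : ¬ (2 ≤ k ∧ k < 6) := by omega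
      simp [this])
    rw [Finset.sum_congr rfl (fun i _ => e i)]
    refine hg.trans ?_
    norm_num
    grind
  rw [hH] at h4
  have e5 : finRotate n ⟨4, by omega⟩ = ⟨5, by omega⟩ := by
    apply Fin.ext
    rw [rot_val]
    simp
    omega
  have key : (E ⟨4, by omega⟩ + α ^ 2 • E (finRotate n ⟨4, by omega⟩) : Fin n → F) =
      α • ((wvec n F ∘ (finRotate n).symm) ∘ (finRotate n).symm +
        α ^ 2 • fun i => dvec n α i * ((wvec n F ∘ (finRotate n).symm) ∘ (finRotate n).symm) i) := by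
    funext i
    rw [e5]
    simp only [Pi.add_apply, Pi.smul_apply, smul_eq_mul, Pi.single_apply, e2 i, dvec, Fin.ext_iff]
    have := i.isLt
    split_ifs <;> first | (exfalso; omega) | grind
  rw [key]
  exact h4

/-- the case `n = 5`. -/
theorem pair_five (h2 : (2 : F) = 0) (α : F) (hα : α ^ 2 + α + 1 = 0)
    (C : Set (Fin 5 → F)) (hC : VClosed 5 F (dvec 5 α) C) (hw : wvec 5 F ∈ C) :
    (E ⟨4, by omega⟩ + α ^ 2 • E (finRotate 5 ⟨4, by omega⟩) : Fin 5 → F) ∈ C := by
  have hα0 : α ≠ 0 := by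
    rintro rfl
    simp at hα
  have hinv : α⁻¹ = α ^ 2 := inv_eq_of_mul_eq_one_right (by grind)
  have hinv2 : (α ^ 2)⁻¹ = α := inv_eq_of_mul_eq_one_right (by grind)
  have r1 := hC.rot _ hw
  have r2 := hC.rot _ r1
  have r3 := hC.rot _ r2
  have ri := hC.rotInv _ r3
  have di := hC.dinv _ ri
  have ro := hC.rot _ di
  have hf := hC.dmul _ ro
  have h3 := hC.base.third _ r3 _ hf
  have h4 := hC.base.scal _ h3 α hα0
  have ew : ∀ i : Fin 5, (((wvec 5 F ∘ (finRotate 5).symm) ∘ (finRotate 5).symm) ∘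
      (finRotate 5).symm) i = (![1, 1, 0, 1, 1] : Fin 5 → F) i := by
    intro i
    simp only [Function.comp_apply, wvec, rotS_val]
    fin_cases i <;> simp
  have ef : ∀ i : Fin 5, dvec 5 α i * ((fun i => (dvec 5 α i)⁻¹ *
      ((((wvec 5 F ∘ (finRotate 5).symm) ∘ (finRotate 5).symm) ∘ (finRotate 5).symm) ∘
        (finRotate 5)) i) ∘ (finRotate 5).symm) i = (![α ^ 2, 1, 0, 1, α] : Fin 5 → F) i := by
    intro i
    have e1 : ((fun i => (dvec 5 α i)⁻¹ *
      ((((wvec 5 F ∘ (finRotate 5).symm) ∘ (finRotate 5).symm) ∘ (finRotate 5).symm) ∘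
        (finRotate 5)) i) ∘ (finRotate 5).symm) i = (dvec 5 α ((finRotate 5).symm i))⁻¹ *
        (![1, 1, 0, 1, 1] : Fin 5 → F) i := by
      rw [← ew i]
      simp only [Function.comp_apply, Equiv.apply_symm_apply]
    rw [e1]
    simp only [dvec, rotS_val]
    fin_cases i <;> simp [hinv, hinv2] <;> grind
  have hH : H 5 F (((wvec 5 F ∘ (finRotate 5).symm) ∘ (finRotate 5).symm) ∘ (finRotate 5).symm)
      (fun i => dvec 5 α i * ((fun i => (dvec 5 α i)⁻¹ *
      ((((wvec 5 F ∘ (finRotate 5).symm) ∘ (finRotate 5).symm) ∘ (finRotate 5).symm) ∘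
        (finRotate 5)) i) ∘ (finRotate 5).symm) i) = 1 := by
    rw [H_apply]
    simp only [ew, ef, Fin.sum_univ_five]
    simp
    grind
  rw [hH] at h4
  have e0 : finRotate 5 ⟨4, by omega⟩ = 0 := by decide
  have key : (E ⟨4, by omega⟩ + α ^ 2 • E (finRotate 5 ⟨4, by omega⟩) : Fin 5 → F) =
      α • ((((wvec 5 F ∘ (finRotate 5).symm) ∘ (finRotate 5).symm) ∘ (finRotate 5).symm) +
        (1 : F) • fun i => dvec 5 α i * ((fun i => (dvec 5 α i)⁻¹ *
      ((((wvec 5 F ∘ (finRotate 5).symm) ∘ (finRotate 5).symm) ∘ (finRotate 5).symm) ∘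
        (finRotate 5)) i) ∘ (finRotate 5).symm) i) := by
    funext i
    rw [e0]
    simp only [Pi.add_apply, Pi.smul_apply, smul_eq_mul, ew i, ef i]
    fin_cases i <;> simp [Fin.ext_iff] <;> grind
  rw [key]
  exact h4

end

/-- **[II-PAIR]** -/
theorem pkgPair : Cfsg.Agent.Lib.Helper71.SUG2.PkgPair.{u} := by
  intro F _ _ hF n hn α hα C hC hw
  have h2 : (2 : F) = 0 := f4_two hF
  rcases Nat.eq_or_lt_of_le hn with h5 | h6
  · subst h5
    exact pair_five h2 α hα C hC hw
  · exact pair_six h2 (by omega) α hα C hC hw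

end Cfsg.Agent.Lib.Helper62.SUG2
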