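import Mathlib
import Cfsg.Agent.Lib.Helper71.SUG2.Defs
import Cfsg.Agent.Lib.Helper62.SUG2.Pair

/-!
# Project SUG (S2412), block [II]: package [II-ADJ]

From the adjacent pair `e_4 + α² e_5` to all adjacent pairs `e_i + a e_{i+1}`.
-/

set_option autoImplicit false

namespace Cfsg.Agent.Lib.Helper62.SUG2

open Cfsg.Agent.Lib.Helper71.SUG2

universe u

section

variable {F : Type u} [Field F] {n : ℕ}

/-- rotating an adjacent pair forwards. -/
theorem adj_fwd (δ : Fin n → F) (C : Set (Fin n → F)) (hC : VClosed n F δ C) (i : Fin n) (a : F)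
    (h : (E i + a • E (finRotate n i) : Fin n → F) ∈ C) :
    (E (finRotate n i) + a • E (finRotate n (finRotate n i)) : Fin n → F) ∈ C := by
  have h1 := hC.rot _ h
  have e : (E (finRotate n i) + a • E (finRotate n (finRotate n i)) : Fin n → F) =
      (E i + a • E (finRotate n i) : Fin n → F) ∘ (finRotate n).symm := by
    funext k
    simp only [Function.comp_apply, Pi.add_apply, Pi.smul_apply, smul_eq_mul, Pi.single_apply,
      Equiv.symm_apply_eq]
  rw [e]
  exact h1

/-- rotating an adjacent pair backwards. -/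
theorem adj_bwd (δ : Fin n → F) (C : Set (Fin n → F)) (hC : VClosed n F δ C) (i : Fin n) (a : F)
    (h : (E (finRotate n i) + a • E (finRotate n (finRotate n i)) : Fin n → F) ∈ C) :
    (E i + a • E (finRotate n i) : Fin n → F) ∈ C := by
  have h1 := hC.rotInv _ h
  have e : (E i + a • E (finRotate n i) : Fin n → F) =
      (E (finRotate n i) + a • E (finRotate n (finRotate n i)) : Fin n → F) ∘ (finRotate n) := by
    funext k
    simp only [Function.comp_apply, Pi.add_apply, Pi.smul_apply, smul_eq_mul, Pi.single_apply,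
      EmbeddingLike.apply_eq_iff_eq]
  rw [e]
  exact h1

/-- all positions are equivalent to position `0`. -/
theorem adj_zero (δ : Fin n → F) (C : Set (Fin n → F)) (hC : VClosed n F δ C) (a : F)
    (k : ℕ) (hk : k < n) :
    (E ⟨k, hk⟩ + a • E (finRotate n ⟨k, hk⟩) : Fin n → F) ∈ C ↔
      (E ⟨0, by omega⟩ + a • E (finRotate n ⟨0, by omega⟩) : Fin n → F) ∈ C := by
  induction k with
  | zero => exact Iff.rfl
  | succ m ih =>
    have hm : m < n := by omega
    have e : (⟨m + 1, hk⟩ : Fin n) = finRotate n ⟨m, hm⟩ := by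
      apply Fin.ext
      rw [rot_val]
      simp
      omega
    rw [← ih hm, e]
    exact ⟨adj_bwd δ C hC _ a, adj_fwd δ C hC _ a⟩

/-- one position gives all positions. -/
theorem adj_all (δ : Fin n → F) (C : Set (Fin n → F)) (hC : VClosed n F δ C) (a : F)
    (i : Fin n) (h : (E i + a • E (finRotate n i) : Fin n → F) ∈ C) (j : Fin n) :
    (E j + a • E (finRotate n j) : Fin n → F) ∈ C :=
  (adj_zero δ C hC a j.val j.isLt).mpr ((adj_zero δ C hC a i.val i.isLt).mp h)

/-- the diagonal step at position `3`: from `e_3 + b e_4` to `e_3 + α b e_4`. -/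
theorem adj_dstep (h2 : (2 : F) = 0) (hn : 5 ≤ n) (α : F) (hα : α ^ 2 + α + 1 = 0)
    (C : Set (Fin n → F)) (hC : VClosed n F (dvec n α) C) (b : F)
    (h : (E ⟨3, by omega⟩ + b • E (finRotate n ⟨3, by omega⟩) : Fin n → F) ∈ C) :
    (E ⟨3, by omega⟩ + (α * b) • E (finRotate n ⟨3, by omega⟩) : Fin n → F) ∈ C := by
  have hα0 : α ≠ 0 := by
    rintro rfl
    simp at hα
  have hα20 : α ^ 2 ≠ 0 := pow_ne_zero 2 hα0
  have h1 := hC.dmul _ h
  have h3 := hC.base.scal _ h1 (α ^ 2) hα20
  have e4 : finRotate n ⟨3, by omega⟩ = ⟨4, by omega⟩ := by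
    apply Fin.ext
    rw [rot_val]
    simp
    omega
  have e : (E ⟨3, by omega⟩ + (α * b) • E (finRotate n ⟨3, by omega⟩) : Fin n → F) =
      α ^ 2 • fun i => dvec n α i *
        (E ⟨3, by omega⟩ + b • E (finRotate n ⟨3, by omega⟩) : Fin n → F) i := by
    funext i
    rw [e4]
    simp only [Pi.add_apply, Pi.smul_apply, smul_eq_mul, Pi.single_apply, dvec, Fin.ext_iff]
    have := i.isLt
    split_ifs <;> first | (exfalso; omega) | grind
  rw [e]
  exact h3

end

/-- **[II-ADJ]** -/
theorem pkgAdj : Cfsg.Agent.Lib.Helper71.SUG2.PkgAdj.{u} := by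
  intro F _ _ hF n hn α hα C hC h4 i a ha
  have h2 : (2 : F) = 0 := f4_two hF
  have ha3 : a ^ 3 = 1 := f4_cube hF a ha
  -- position 3 with coefficient α²
  have p2 : (E ⟨3, by omega⟩ + (α ^ 2) • E (finRotate n ⟨3, by omega⟩) : Fin n → F) ∈ C :=
    adj_all _ C hC (α ^ 2) _ h4 _
  have p0 := adj_dstep h2 hn α hα C hC _ p2
  have p1 := adj_dstep h2 hn α hα C hC _ p0
  have e0 : α * α ^ 2 = 1 := by grind
  have e1 : α * (α * α ^ 2) = α := by grind
  rw [e0] at p0
  rw [e1] at p1
  have hcases : a = 1 ∨ a = α ∨ a = α ^ 2 := by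
    have hz : (a - 1) * ((a - α) * (a - α ^ 2)) = 0 := by grind
    rcases mul_eq_zero.mp hz with h | h
    · exact Or.inl (sub_eq_zero.mp h)
    · rcases mul_eq_zero.mp h with h | h
      · exact Or.inr (Or.inl (sub_eq_zero.mp h))
      · exact Or.inr (Or.inr (sub_eq_zero.mp h))
  rcases hcases with rfl | rfl | rfl
  · exact adj_all _ C hC _ _ p0 i
  · exact adj_all _ C hC _ _ p1 i
  · exact adj_all _ C hC _ _ p2 i

end Cfsg.Agent.Lib.Helper62.SUG2
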